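import Cfsg.Agent.H875.RG.FourData
import Cfsg.Agent.H931.KC.Theta
import Cfsg.Agent.H550.RG.CntD
import Cfsg.Agent.H76.RG.High

/-!
# `A₄A₄` in `E₈` (S3509, helper875)

`t ∈ T` of order 5 in `E₈` with 40 roots in `Sx t`, `θ` the action of a frame automorphism fixing `t`:
* `cases_theta` : the highest root of the first chain is fixed by `θ`, or `θ` acts as one of two permutations of order 4 on the base;
* `four_four` : there is a `θ`-fixed top root with 6 neighbours, or the centralizer has at most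
  `(q + 1) ^ 8 * q ^ 20 * ((1 + q ^ 2) ^ 2 * (1 + q ^ 4) ^ 4)` elements.
-/

set_option autoImplicit false
set_option linter.unusedSectionVars false
set_option maxRecDepth 100000

namespace Cfsg.Agent.H875.RG.Four

open CoxeterSystem Cfsg Cfsg.Lie Cfsg.Lie.ChevalleyDatum
open Cfsg.Agent.ChevalleyStructure Cfsg.Agent.ChevalleyStructure.Elts Cfsg.Agent.ChevalleyStructure.CoxeterGeom
  Cfsg.Agent.ChevalleyStructure.CoxeterGeomTypes Cfsg.Agent.ChevalleyStructure.NPerm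
open Cfsg.Agent.Tits.Roots Cfsg.Agent.Tits.Core Cfsg.Agent.Nodes Cfsg.Agent.Nodes.Reps Cfsg.Agent.Nodes.BNOf
  Cfsg.Agent.Nodes.RGDChev Cfsg.Agent.Nodes.Bruhat
open Cfsg.Agent.KFacts.RgdField Cfsg.Agent.KFacts.RgdChevCoord Cfsg.Agent.BpExc.TorCent Cfsg.Agent.BpExc.TorChev
open Cfsg.Agent.H129.TorusChar Cfsg.Agent.H129.WData
open Cfsg.Agent.H931.KC

universe u v

variable {M : CoxeterMatrix (Fin 8)} (hp : IsType chevE8 8 M)

theorem root_iff (x : Fin 8 → ℤ) :
    IsRoot M.toCoxeterSystem hp.isCartan x ↔ ∃ r : Fin 240, vec chevE8 8 r = x := by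
  rw [isRoot_iff hp M.toCoxeterSystem x]
  constructor
  · rintro ⟨r, hr, e⟩
    rw [nroots] at hr
    exact ⟨⟨r, hr⟩, e⟩
  · rintro ⟨r, e⟩
    exact ⟨r, by rw [nroots]; exact r.2, e⟩

theorem act_iff (w : M.Group) (x : Fin 8 → ℤ) : IsRoot M.toCoxeterSystem hp.isCartan
    (rep M.toCoxeterSystem hp.isCartan w x) ↔ IsRoot M.toCoxeterSystem hp.isCartan x := by
  refine ⟨fun h => ?_, fun h => h.act w⟩
  have := h.act w⁻¹
  rwa [rep_inv_apply] at this

/-- the Kac coordinates of the class `A₄A₄` -/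
structure Co (c : Fin 8 → ℕ) (c0 : ℕ) : Prop where
  zero : c0 = 0
  four : c 4 = 1
  other : ∀ i, i ≠ 4 → c i = 0

variable {c : Fin 8 → ℕ} {c0 : ℕ}

theorem bb_eq (hJ : Co c c0) (x : Fin 8 → ℤ) : bb c x = x 4 := by
  show ∑ i, x i * (c i : ℤ) = x 4
  rw [Finset.sum_eq_single 4]
  · rw [hJ.four, Nat.cast_one, mul_one]
  · intro i _ hi
    rw [hJ.other i hi, Nat.cast_zero, mul_zero]
  · intro h
    exact absurd (Finset.mem_univ _) h

theorem ct_iff (hJ : Co c c0) (j : Option (Fin 8)) : ct c c0 j = 0 ↔ j ≠ some 4 := by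
  cases j with
  | none =>
    show c0 = 0 ↔ _
    exact ⟨fun _ => by simp, fun _ => hJ.zero⟩
  | some i =>
    show c i = 0 ↔ _
    constructor
    · intro h e
      rw [Option.some.inj e, hJ.four] at h
      exact one_ne_zero h
    · intro h
      exact hJ.other i fun e => h (congrArg some e)

theorem SJ_iff_R (hJ : Co c c0) (x : Fin 8 → ℤ) : SJ hp 5 c x ↔ ∃ k, x = R k := by
  unfold SJ
  rw [bb_eq hJ, root_iff hp]
  constructor
  · rintro ⟨⟨r, rfl⟩, h⟩
    refine exists_R r ?_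
    rcases h with ⟨h1, h2⟩ | h1
    · exact Or.inl ⟨h1, fun i => h2 i⟩
    · exact Or.inr h1
  · rintro ⟨k, rfl⟩
    obtain ⟨h1, h2⟩ := R_root k
    refine ⟨h2, ?_⟩
    rcases h1 with ⟨h1, h3⟩ | h1
    · exact Or.inl ⟨h1, fun i => h3 i⟩
    · exact Or.inr h1

theorem map_isum {A B : Type*} [AddCommMonoid A] [AddCommMonoid B] (F : A →+ B) (f : Fin 8 → A) (k : Fin 20) :
    F (isum f k) = isum (fun j => F (f j)) k := by
  unfold isum
  rw [map_sum]
  refine Finset.sum_congr rfl fun j _ => ?_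
  rw [apply_ite F, map_zero]

/-- the permutation of the base -/
theorem exists_sigma (hJ : Co c c0) {θ : (Fin 8 → ℤ) ≃+ (Fin 8 → ℤ)} {w : M.Group}
    {π : Equiv.Perm {j : Option (Fin 8) // ct c c0 j = 0}}
    (hπ : ∀ j, θ (rep M.toCoxeterSystem hp.isCartan w (al chevE8 8 j.1)) =
      rep M.toCoxeterSystem hp.isCartan w (al chevE8 8 (π j).1)) :
    ∃ σ : Fin 8 → Fin 8, Function.Injective σ ∧ ∀ j, θ (rep M.toCoxeterSystem hp.isCartan w (bs j)) =
      rep M.toCoxeterSystem hp.isCartan w (bs (σ j)) := by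
  have hmem : ∀ j, ct c c0 (nd j) = 0 := fun j => (ct_iff hJ _).2 (nd_ne j)
  have h1 : ∀ j, ∃ i, nd i = (π ⟨nd j, hmem j⟩).1 := fun j =>
    exists_nd _ ((ct_iff hJ _).1 (π ⟨nd j, hmem j⟩).2)
  choose σ hσ using h1
  refine ⟨σ, fun i j hij => ?_, fun j => ?_⟩
  · have h2 : (π ⟨nd i, hmem i⟩).1 = (π ⟨nd j, hmem j⟩).1 := by rw [← hσ, ← hσ, hij]
    have h3 := π.injective (Subtype.ext h2)
    exact nd_inj i j (congrArg Subtype.val h3)
  · rw [← al_nd, ← al_nd, hσ]
    exact hπ ⟨nd j, hmem j⟩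

section

variable {θ : (Fin 8 → ℤ) ≃+ (Fin 8 → ℤ)} {w : M.Group} {σ : Fin 8 → Fin 8}
  (hσ : ∀ j, θ (rep M.toCoxeterSystem hp.isCartan w (bs j)) = rep M.toCoxeterSystem hp.isCartan w (bs (σ j)))

include hσ

theorem theta_R (k : Fin 20) : θ (rep M.toCoxeterSystem hp.isCartan w (R k)) =
    rep M.toCoxeterSystem hp.isCartan w (isum (fun j => bs (σ j)) k) := by
  have h1 := map_isum (θ.toAddMonoidHom.comp (rep M.toCoxeterSystem hp.isCartan w).toAddMonoidHom) bs k
  have h2 := map_isum (rep M.toCoxeterSystem hp.isCartan w).toAddMonoidHom (fun j => bs (σ j)) k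
  refine h1.trans (Eq.trans ?_ h2.symm)
  congr 1
  funext j
  exact hσ j

theorem adj_sigma (hg : ∀ a, IsRoot M.toCoxeterSystem hp.isCartan (θ a) ↔ IsRoot M.toCoxeterSystem hp.isCartan a)
    {i j : Fin 8} (h : adj i j = true) : adj (σ i) (σ j) = true := by
  rw [← adj_iff, ← root_iff hp] at h ⊢
  rw [← act_iff hp w, map_add, ← hσ, ← hσ, ← map_add, hg, ← map_add, act_iff hp w]
  exact h

/-- **The four cases.** -/
theorem sigma_cases (hinj : Function.Injective σ)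
    (hg : ∀ a, IsRoot M.toCoxeterSystem hp.isCartan (θ a) ↔ IsRoot M.toCoxeterSystem hp.isCartan a) :
    θ (rep M.toCoxeterSystem hp.isCartan w (R 3)) = rep M.toCoxeterSystem hp.isCartan w (R 3) ∨ σ = s1 ∨ σ = s2 ∨
      ∀ j, σ (σ j) = j := by
  obtain ⟨a1, a2, a3, a4, a5, a6⟩ := adj_chain
  have e1 := adj_sigma hp hσ hg a1
  have e2 := adj_sigma hp hσ hg a2
  have e3 := adj_sigma hp hσ hg a3
  have e4 := adj_sigma hp hσ hg a4
  have e5 := adj_sigma hp hσ hg a5
  have e6 := adj_sigma hp hσ hg a6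
  have hR : R 3 = bs 0 + bs 1 + bs 2 + bs 3 := isum_three bs
  have key := theta_R hp hσ 3
  rw [isum_three] at key
  have ne : ∀ i j : Fin 8, i ≠ j → σ i ≠ σ j := fun i j h h' => h (hinj h')
  rcases paths _ _ _ _ e1 e2 e3 (ne 0 2 (by decide)) (ne 1 3 (by decide)) with
    ⟨b0, b1, b2, b3⟩ | ⟨b0, b1, b2, b3⟩ | ⟨b0, b1, b2, b3⟩ | ⟨b0, b1, b2, b3⟩
  · left
    rw [key, b0, b1, b2, b3, hR]
  · left
    rw [key, b0, b1, b2, b3, hR]
    congr 1
    abel
  · right
    rcases paths _ _ _ _ e4 e5 e6 (ne 4 6 (by decide)) (ne 5 7 (by decide)) with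
      ⟨b4, b5, b6, b7⟩ | ⟨b4, b5, b6, b7⟩ | ⟨b4, b5, b6, b7⟩ | ⟨b4, b5, b6, b7⟩
    · right; right
      intro j
      fin_cases j <;> simp [b0, b1, b2, b3, b4, b5, b6, b7]
    · left
      funext j
      fin_cases j <;> simp [b0, b1, b2, b3, b4, b5, b6, b7, s1]
    · exact absurd (b0.trans b4.symm) (ne 0 4 (by decide))
    · exact absurd (b0.trans b7.symm) (ne 0 7 (by decide))
  · right
    rcases paths _ _ _ _ e4 e5 e6 (ne 4 6 (by decide)) (ne 5 7 (by decide)) with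
      ⟨b4, b5, b6, b7⟩ | ⟨b4, b5, b6, b7⟩ | ⟨b4, b5, b6, b7⟩ | ⟨b4, b5, b6, b7⟩
    · right; left
      funext j
      fin_cases j <;> simp [b0, b1, b2, b3, b4, b5, b6, b7, s2]
    · right; right
      intro j
      fin_cases j <;> simp [b0, b1, b2, b3, b4, b5, b6, b7]
    · exact absurd (b0.trans b7.symm) (ne 0 7 (by decide))
    · exact absurd (b0.trans b4.symm) (ne 0 4 (by decide))

/-- the square is trivial -/
theorem sq_eq (h2 : ∀ j, σ (σ j) = j) : θ (θ (rep M.toCoxeterSystem hp.isCartan w (sr 4))) =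
    rep M.toCoxeterSystem hp.isCartan w (sr 4) := by
  set G : (Fin 8 → ℤ) →+ (Fin 8 → ℤ) := θ.toAddMonoidHom.comp (θ.toAddMonoidHom.comp
    (rep M.toCoxeterSystem hp.isCartan w).toAddMonoidHom) with hG
  set G' : (Fin 8 → ℤ) →+ (Fin 8 → ℤ) := (rep M.toCoxeterSystem hp.isCartan w).toAddMonoidHom with hG'
  have e1 : ∀ j, G (bs j) = G' (bs j) := fun j => by
    show θ (θ (rep M.toCoxeterSystem hp.isCartan w (bs j))) = rep M.toCoxeterSystem hp.isCartan w (bs j)
    rw [hσ, hσ, h2]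
  have e2 : (5 : ℤ) • G (sr 4) = (5 : ℤ) • G' (sr 4) := by
    rw [← map_zsmul, ← map_zsmul, five_sr, map_sum, map_sum]
    refine Finset.sum_congr rfl fun j _ => ?_
    rw [map_zsmul, map_zsmul, e1]
  exact smul_right_injective _ (by norm_num : (5 : ℤ) ≠ 0) e2

end

/-- **The action of `θ` on the base.** -/
theorem cases_theta (hJ : Co c c0) {k : Type u} [Field k] {ζ : k} (hζ : IsPrimitiveRoot ζ 5) {t : ↥(chevE8.group k)}
    {θ : (Fin 8 → ℤ) ≃+ (Fin 8 → ℤ)} {w : M.Group}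
    (hg : ∀ a, IsRoot M.toCoxeterSystem hp.isCartan (θ a) ↔ IsRoot M.toCoxeterSystem hp.isCartan a)
    (h1 : ∀ x, cX hp t (rep M.toCoxeterSystem hp.isCartan w x) = ζ ^ bb c x)
    {π : Equiv.Perm {j : Option (Fin 8) // ct c c0 j = 0}}
    (hπ : ∀ j, θ (rep M.toCoxeterSystem hp.isCartan w (al chevE8 8 j.1)) =
      rep M.toCoxeterSystem hp.isCartan w (al chevE8 8 (π j).1))
    {q : ℕ} (hq : ∀ x, cX hp t (θ x) = cX hp t x ^ q) (h5 : ¬ 5 ∣ q ^ 2 - 1) (hq0 : 0 < q) :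
    θ (rep M.toCoxeterSystem hp.isCartan w (R 3)) = rep M.toCoxeterSystem hp.isCartan w (R 3) ∨
      (∀ k, θ (rep M.toCoxeterSystem hp.isCartan w (R k)) = rep M.toCoxeterSystem hp.isCartan w (R (r1 k))) ∨
      (∀ k, θ (rep M.toCoxeterSystem hp.isCartan w (R k)) = rep M.toCoxeterSystem hp.isCartan w (R (r2 k))) := by
  obtain ⟨σ, hinj, hσ⟩ := exists_sigma hp hJ hπ
  rcases sigma_cases hp hσ hinj hg with h | h | h | h
  · exact Or.inl h
  · right; left
    intro k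
    rw [theta_R hp hσ, h, r1_eq]
  · right; right
    intro k
    rw [theta_R hp hσ, h, r2_eq]
  · exfalso
    have e1 := sq_eq hp hσ h
    have e2 : cX hp t (rep M.toCoxeterSystem hp.isCartan w (sr 4)) = ζ := by
      rw [h1, bb_eq hJ]
      have : (sr 4 : Fin 8 → ℤ) 4 = 1 := sr_self 4
      rw [this, zpow_one]
    have e3 : ζ = ζ ^ (q ^ 2) := by
      conv_lhs => rw [← e2, ← e1]
      rw [hq, hq, e2, ← pow_mul, sq]
    refine h5 ((hζ.pow_eq_one_iff_dvd _).1 ?_)
    have h0 : ζ ≠ 0 := hζ.ne_zero (by norm_num)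
    have e4 : 1 ≤ q ^ 2 := Nat.one_le_pow _ _ hq0
    have e5 : ζ ^ (q ^ 2 - 1) * ζ = 1 * ζ := by
      rw [← pow_succ, Nat.sub_add_cancel e4, ← e3, one_mul]
    exact mul_right_cancel₀ h0 e5

/-- 40 roots: the Kac coordinates -/
theorem co_of_card {k : Type u} [Field k] {ζ : k} (hζ : IsPrimitiveRoot ζ 5) {t : ↥(chevE8.group k)}
    (ht : t ∈ TT chevE8 k) {w : M.Group} (K : Kac chevE8 8 5 c c0)
    (h1 : ∀ x, cX hp t (rep M.toCoxeterSystem hp.isCartan w x) = ζ ^ bb c x)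
    (hcard : (Sx M.toCoxeterSystem hp.isCartan (ch hp) t).ncard = 40) : Co c c0 := by
  have hs := K.sum
  rw [hr_eq, Fin.sum_univ_eight] at hs
  simp only [Matrix.cons_val] at hs
  have c3 : c 3 = 0 := by omega
  by_cases h4 : c 4 = 0
  · exfalso
    have hset : Sx M.toCoxeterSystem hp.isCartan (ch hp) t = ↑((Finset.univ.filter fun r : Fin 240 =>
        (5 : ℤ) ∣ bb c (vec chevE8 8 r)).image fun r : Fin 240 => rep M.toCoxeterSystem hp.isCartan w (vec chevE8 8 r)) := by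
      ext a
      rw [Finset.coe_image, Set.mem_image]
      constructor
      · rintro ⟨ha, ha1⟩
        obtain ⟨r, hr⟩ := (root_iff hp _).1 (ha.act w⁻¹)
        refine ⟨r, ?_, by rw [hr, rep_apply_inv]⟩
        rw [Finset.mem_coe, Finset.mem_filter]
        refine ⟨Finset.mem_univ _, ?_⟩
        have h2 := h1 (rep M.toCoxeterSystem hp.isCartan w⁻¹ a)
        rw [rep_apply_inv, cX_root hp M.toCoxeterSystem ht ha, ha1] at h2
        have h3 := (hζ.zpow_eq_one_iff_dvd _).1 h2.symm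
        rw [hr]
        exact_mod_cast h3
      · rintro ⟨r, hr, rfl⟩
        rw [Finset.mem_coe, Finset.mem_filter] at hr
        have h2 : IsRoot M.toCoxeterSystem hp.isCartan (vec chevE8 8 r) := (root_iff hp _).2 ⟨r, rfl⟩
        refine ⟨h2.act w, ?_⟩
        rw [← cX_root hp M.toCoxeterSystem ht (h2.act w), h1, hζ.zpow_eq_one_iff_dvd]
        exact_mod_cast hr.2
    rw [hset, Set.ncard_coe_finset, Finset.card_image_of_injective _ (fun r s h => Fin.ext (vec_inj hp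
      (by rw [nroots]; exact r.2) (by rw [nroots]; exact s.2) (rep_injective_apply M.toCoxeterSystem hp.isCartan w h)))]
      at hcard
    have b0 : c 0 < 3 := by omega
    have b1 : c 1 < 3 := by omega
    have b2 : c 2 < 3 := by omega
    have b5 : c 5 < 3 := by omega
    have b6 : c 6 < 3 := by omega
    have b7 : c 7 < 3 := by omega
    refine kac_forty ⟨c 0, b0⟩ ⟨c 1, b1⟩ ⟨c 2, b2⟩ ⟨c 5, b5⟩ ⟨c 6, b6⟩ ⟨c 7, b7⟩ (by dsimp only; omega) ?_
    rw [← hcard]
    congr 1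
    refine Finset.filter_congr fun r _ => ?_
    have e : bb c (vec chevE8 8 r) = vec chevE8 8 r 0 * (c 0 : ℤ) + vec chevE8 8 r 1 * (c 1 : ℤ) +
        vec chevE8 8 r 2 * (c 2 : ℤ) + vec chevE8 8 r 5 * (c 5 : ℤ) + vec chevE8 8 r 6 * (c 6 : ℤ) +
        vec chevE8 8 r 7 * (c 7 : ℤ) := by
      show ∑ i, vec chevE8 8 r i * (c i : ℤ) = _
      rw [Fin.sum_univ_eight, c3, h4]
      push_cast
      ring
    rw [e]
  · refine ⟨by omega, by omega, fun i hi => ?_⟩
    fin_cases i <;> first | (exact absurd rfl hi) | (simp only [Fin.reduceFinMk, Fin.isValue]; omega)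

section Fin

open Cfsg.Agent.BpExc Cfsg.Agent.BpExc.Tow Cfsg.Agent.BpExc.TowChev Cfsg.Agent.BpExc.Fr Cfsg.Agent.BpExc.Pair
  Cfsg.Agent.BpExc.LangFr Cfsg.Agent.GpExc.Field Cfsg.Agent.BpExc.NInst Cfsg.Agent.H461.E2.Sup Cfsg.Agent.H469.Exc

variable {hp : IsType chevE8 8 M} {r q : ℕ} [hr : Fact r.Prime] {K₀ : Type v} [Group K₀]
  {m : H316.U6.MData hp r q K₀} {s : ↥(chevE8.group (KK r))}

/-- **`A₄A₄`.** -/
theorem four_four [Finite M.Group] (f : H169.RG.TorForm m s) (hs : s ^ 5 = 1) (h5 : ((5 : ℕ) : KK r) ≠ 0)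
    (hq : ¬ 5 ∣ q ^ 2 - 1) (hcard : (Sx M.toCoxeterSystem hp.isCartan (ch hp) f.t).ncard = 40) :
    (∃ β ∈ Sx M.toCoxeterSystem hp.isCartan (ch hp) f.t, 0 ≤ β ∧ f.θ β = β ∧
      6 ≤ H76.RG.nb M.toCoxeterSystem hp.isCartan (Sx M.toCoxeterSystem hp.isCartan (ch hp) f.t) β ∧
      ∀ a ∈ Sx M.toCoxeterSystem hp.isCartan (ch hp) f.t, 0 ≤ a → ¬ IsRoot M.toCoxeterSystem hp.isCartan (β + a)) ∨
    Nat.card ↥(fixC m.σ s) ≤ (q + 1) ^ 8 * q ^ 20 * ((1 + q ^ 2) ^ 2 * (1 + q ^ 4) ^ 4) := by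
  have hne : NeZero ((5 : ℕ) : KK r) := ⟨h5⟩
  obtain ⟨ζ, hζ⟩ := HasEnoughRootsOfUnity.exists_primitiveRoot (KK r) 5
  obtain ⟨w, c, c0, K, h1, h2, π, hπ⟩ := exists_kac_theta hp (by norm_num) hζ f.mem (f.pow_eq_one hs) f.stab f.pos
  have hJ := co_of_card hp hζ f.mem K h1 hcard
  have hq' : ∀ x, cX hp f.t (f.θ x) = cX hp f.t x ^ q := fun x => by
    have h3 := cX_sigma hp M.toCoxeterSystem f.frob f.fr f.mem x
    rwa [f.fix, m.hq] at h3
  have hq0 : 0 < q := by
    rw [← m.hq]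
    exact pow_pos (Fact.out : r.Prime).pos _
  have hR : ∀ k, rep M.toCoxeterSystem hp.isCartan w (R k) ∈ Sx M.toCoxeterSystem hp.isCartan (ch hp) f.t ∧
      0 ≤ rep M.toCoxeterSystem hp.isCartan w (R k) := fun k => (h2 _).2 ((SJ_iff_R hp hJ _).2 ⟨k, rfl⟩)
  have hex : ∀ a ∈ Sx M.toCoxeterSystem hp.isCartan (ch hp) f.t, 0 ≤ a →
      ∃ k, a = rep M.toCoxeterSystem hp.isCartan w (R k) := by
    intro a ha h0
    have h3 := (h2 (rep M.toCoxeterSystem hp.isCartan w⁻¹ a)).1 (by rw [rep_apply_inv]; exact ⟨ha, h0⟩)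
    obtain ⟨k, hk⟩ := (SJ_iff_R hp hJ _).1 h3
    exact ⟨k, by rw [← hk, rep_apply_inv]⟩
  have hB : ∀ ρ : Fin 20 → Fin 20, (∀ a b : Fin 20, cl a = cl b → ∃ n : Fin 4, ρ^[n.val] a = b) →
      (∀ k, f.θ (rep M.toCoxeterSystem hp.isCartan w (R k)) = rep M.toCoxeterSystem hp.isCartan w (R (ρ k))) →
      Nat.card ↥(fixC m.σ s) ≤ (q + 1) ^ 8 * q ^ 20 * ((1 + q ^ 2) ^ 2 * (1 + q ^ 4) ^ 4) := by
    intro ρ hρ hθ
    have hinj : Function.Injective fun k => rep M.toCoxeterSystem hp.isCartan w (R k) := fun a b h =>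
      R_inj a b (rep_injective_apply M.toCoxeterSystem hp.isCartan w h)
    have key := H550.RG.tor_le_orb f (Finset.univ : Finset (Fin 6))
      (fun i => (Finset.univ.filter fun k => cl k = i).image fun k => rep M.toCoxeterSystem hp.isCartan w (R k))
      (fun i _ j _ hij => by
        rw [Finset.disjoint_left]
        intro x hx hy
        obtain ⟨a, ha, rfl⟩ := Finset.mem_image.1 hx
        obtain ⟨b, hb, e⟩ := Finset.mem_image.1 hy
        rw [Finset.mem_filter] at ha hb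
        rw [hinj e] at hb
        exact hij (ha.2.symm.trans hb.2))
      (fun i _ x hx y hy => by
        obtain ⟨a, ha, rfl⟩ := Finset.mem_image.1 hx
        obtain ⟨b, hb, rfl⟩ := Finset.mem_image.1 hy
        rw [Finset.mem_filter] at ha hb
        obtain ⟨n, hn⟩ := hρ a b (ha.2.trans hb.2.symm)
        refine ⟨n.val, ?_⟩
        rw [← hn]
        have h3 : ∀ n : ℕ, ∀ a, (fun x => f.θ x)^[n] (rep M.toCoxeterSystem hp.isCartan w (R a)) =
            rep M.toCoxeterSystem hp.isCartan w (R (ρ^[n] a)) := by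
          intro n
          induction n with
          | zero => intro a; rfl
          | succ n ih =>
            intro a
            rw [Function.iterate_succ_apply, Function.iterate_succ_apply, hθ, ih]
        exact (h3 _ _).symm)
      (fun a ha h0 => by
        obtain ⟨k, rfl⟩ := hex a ha h0
        exact ⟨cl k, Finset.mem_univ _, Finset.mem_image.2 ⟨k, Finset.mem_filter.2 ⟨Finset.mem_univ _, rfl⟩, rfl⟩⟩)
    have hN : (H28.RG.SP M.toCoxeterSystem hp.isCartan (ch hp) f.t).ncard = 20 := by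
      have h3 := H550.RG.tor_ncard f
      omega
    have hPP : Nat.card ↥(PP M.toCoxeterSystem hp.isCartan (ch hp) f.t) ≤ 1 := by
      refine (card_PP_le hp h5 f.mem (f.pow_eq_one hs)).trans ?_
      rw [card_mk, nmk_E8]
    have hprod : ∏ i : Fin 6, (1 + q ^ ((Finset.univ.filter fun k => cl k = i).image fun k =>
        rep M.toCoxeterSystem hp.isCartan w (R k)).card) ≤ (1 + q ^ 2) ^ 2 * (1 + q ^ 4) ^ 4 := by
      calc _ ≤ ∏ i : Fin 6, (1 + q ^ sz i) := by
            refine Finset.prod_le_prod' fun i _ => Nat.add_le_add_left (Nat.pow_le_pow_right hq0 ?_) 1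
            rw [← cl_card i]
            exact Finset.card_image_le
        _ = _ := by
            rw [Fin.prod_univ_six]
            simp only [sz, Matrix.cons_val]
            ring
    rw [hN] at key
    refine key.trans (Nat.mul_le_mul (Nat.mul_le_mul_right _ (H550.RG.tor_TT f)) ?_)
    calc _ ≤ 1 * ((1 + q ^ 2) ^ 2 * (1 + q ^ 4) ^ 4) := Nat.mul_le_mul hPP hprod
      _ = _ := one_mul _
  rcases cases_theta hp hJ hζ f.fr.root h1 hπ hq' hq hq0 with h | h | h
  · left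
    refine ⟨rep M.toCoxeterSystem hp.isCartan w (R 3), (hR 3).1, (hR 3).2, h, ?_, ?_⟩
    · have hinj : Function.Injective fun i : Fin 6 => rep M.toCoxeterSystem hp.isCartan w (R (six i)) := fun a b h =>
        six_inj a b (R_inj _ _ (rep_injective_apply M.toCoxeterSystem hp.isCartan w h))
      have h3 : (Set.range fun i : Fin 6 => rep M.toCoxeterSystem hp.isCartan w (R (six i))).ncard = 6 := by
        rw [← Set.image_univ, Set.ncard_image_of_injective _ hinj, Set.ncard_univ, Nat.card_fin]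
      unfold H76.RG.nb
      conv_lhs => rw [← h3]
      refine Set.ncard_le_ncard ?_ ?_
      · rintro _ ⟨i, rfl⟩
        refine ⟨(hR _).1, ?_⟩
        rw [← map_sub, act_iff hp, root_iff hp]
        exact six_sub i
      · exact (RGD.finite_roots (cs := M.toCoxeterSystem) (h := hp.isCartan)).subset fun x hx => hx.1.1
    · intro a ha h0 hr
      obtain ⟨k, rfl⟩ := hex a ha h0
      rw [← map_add, act_iff hp, root_iff hp] at hr
      obtain ⟨r, hr⟩ := hr
      exact R3_top k r hr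
  · exact Or.inr (hB r1 cl_r1 h)
  · exact Or.inr (hB r2 cl_r2 h)

end Fin

end Cfsg.Agent.H875.RG.Four
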