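import Cfsg.Agent.H460.OT.BruComb
import Cfsg.Agent.H123.ExcComb
import Cfsg.Agent.BpExc.TorCent

/-!
# S3509: the elements of the stabiliser of `t` commuting with the frame automorphism (helper875)

`S` a symmetric reflection stable set of roots (`RS`), `θ` an automorphism of the root lattice preserving the roots, `S`
and the positive roots of `S`.

* `RW cs h S` : the group generated by the reflections in the roots of `S`; `ls cs h S w` : the number of positive roots of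
  `S` made negative by `w`;
* `eq_one` : an element of `RW` preserving the positive roots of `S` is trivial;
* `exists_fac` : `w` preserving `S` and commuting with `θ` is `p * v`, `v ∈ RW` commuting with `θ`, `p` preserving the
  positive roots of `S`, `ls w = ls v`;
* `sum_le_PP` : for a torus element `t`:
  `∑_{w ∈ F} q ^ ls w ≤ |PP(t)| * ∑_{v ∈ G} q ^ ls v`, `F` any finite set of elements fixing the characters of `t` and commuting
  with `θ`, `G` containing the elements of `RW (Sx t)` commuting with `θ`; `card_le_PP`.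
-/

set_option autoImplicit false
set_option linter.unusedSectionVars false
set_option linter.unusedVariables false

namespace Cfsg.Agent.H875.RG

open CoxeterSystem Cfsg.Agent.ChevalleyStructure.CoxeterGeom Cfsg.Agent.Tits.Roots Cfsg.Agent.Tits.Core
  Cfsg.Agent.Tits.RootComb Cfsg.Agent.Tits.Exchange Cfsg.Agent.Nodes.Reps Cfsg.Agent.Nodes.BNOf
  Cfsg.Agent.Nodes.Coroot Cfsg.Agent.KFacts.RgdSL Cfsg.Agent.KFacts.RgdField Cfsg.Agent.H460.OT
  Cfsg.Agent.BpExc.TorCent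

variable {I W : Type*} [Fintype I] [DecidableEq I] [Group W] {M : CoxeterMatrix I}
  {cs : CoxeterSystem M W} {A : I → I → ℤ} {h : IsCartan M A}

/-- a symmetric reflection stable set of roots -/
structure RS (cs : CoxeterSystem M W) (h : IsCartan M A) (S : Set (I → ℤ)) : Prop where
  root : ∀ x ∈ S, IsRoot cs h x
  neg : ∀ x ∈ S, -x ∈ S
  refl : ∀ a ∈ S, ∀ x ∈ S, x - cpr cs h x a • a ∈ S

/-- the group generated by the reflections in the roots of `S` -/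
def RW (cs : CoxeterSystem M W) (h : IsCartan M A) (S : Set (I → ℤ)) : Subgroup W :=
  Subgroup.closure {s | ∃ a ∈ S, IsRf cs h a s}

/-- the number of the positive roots of `S` which become negative -/
noncomputable def ls (cs : CoxeterSystem M W) (h : IsCartan M A) (S : Set (I → ℤ)) (w : W) : ℕ :=
  Set.ncard {a | a ∈ S ∧ 0 ≤ a ∧ rep cs h w a ≤ 0}

/-- the elements preserving `S` -/
def Pr (cs : CoxeterSystem M W) (h : IsCartan M A) (S : Set (I → ℤ)) : Subgroup W where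
  carrier := {w | ∀ x, rep cs h w x ∈ S ↔ x ∈ S}
  one_mem' := fun x => by rw [map_one, Module.End.one_apply]
  mul_mem' := by
    intro v w hv hw x
    rw [rep_mul_apply]
    exact (hv _).trans (hw x)
  inv_mem' := by
    intro w hw x
    rw [← hw, rep_apply_inv]

theorem mem_Pr {S : Set (I → ℤ)} {w : W} : w ∈ Pr cs h S ↔ ∀ x, rep cs h w x ∈ S ↔ x ∈ S := Iff.rfl

section

variable [Finite W] {S : Set (I → ℤ)} (hS : RS cs h S)

include hS

theorem RW_le : RW cs h S ≤ W0 cs h {x | x ∈ S ∧ 0 ≤ x} := by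
  have key : ∀ a ∈ S, 0 ≤ a → ∀ s : W, IsRf cs h a s → s ∈ W0 cs h {x | x ∈ S ∧ 0 ≤ x} := by
    intro a ha h0 s hs
    obtain ⟨v, hv, b, hb, hvb⟩ := exists_conj_simple (cs := cs) (h := h) hS.root hS.neg hS.refl ha h0
    obtain ⟨r, hr⟩ := exists_rf (cs := cs) (h := h) (hS.root b hb.1.1)
    have h1 : IsRf cs h a (v * r * v⁻¹) := by
      rw [← hvb]
      exact hr.conj (hS.root b hb.1.1) v
    rw [hs.unique h1]
    exact mul_mem (mul_mem hv (Subgroup.subset_closure ⟨b, hb, hr⟩)) (inv_mem hv)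
  rw [RW, Subgroup.closure_le]
  rintro s ⟨a, ha, hs⟩
  rcases (hS.root a ha).pos_or_neg with h0 | h0
  · exact key a ha h0 s hs
  · exact key (-a) (hS.neg a ha) (neg_nonneg.2 h0) s (hs.neg (hS.root a ha))

theorem RW_le_Pr : RW cs h S ≤ Pr cs h S := by
  rw [RW, Subgroup.closure_le]
  rintro s ⟨a, ha, hs⟩ x
  have h1 : ∀ y ∈ S, rep cs h s y ∈ S := fun y hy => by
    rw [hs y]
    exact hS.refl a ha y hy
  refine ⟨fun hx => ?_, h1 x⟩
  have h2 := h1 _ hx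
  rwa [← rep_mul_apply, hs.mul_self (hS.root a ha), map_one, Module.End.one_apply] at h2

/-- **`RW` acts freely.** -/
theorem eq_one {v : W} (hv : v ∈ RW cs h S) (hpos : ∀ x ∈ S, 0 ≤ x → 0 ≤ rep cs h v x) : v = 1 := by
  refine eq_one_of_stab (cs := cs) (h := h) (P := {x | x ∈ S ∧ 0 ≤ x}) (fun x hx => hS.root x hx.1)
    (fun x hx hx' => (hS.root x hx.1).not_pos_neg hx.2 (neg_nonneg.1 hx'.2)) (RW_le hS hv) fun x hx => ?_
  exact ⟨(RW_le_Pr hS hv x).2 hx.1, hpos x hx.1 hx.2⟩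

/-- `b ≤ 0` iff `p b ≤ 0` -/
theorem nonpos_iff {p : W} (hp : p ∈ Pr cs h S) (hpos : ∀ x ∈ S, 0 ≤ x → 0 ≤ rep cs h p x) {b : I → ℤ} (hb : b ∈ S) :
    rep cs h p b ≤ 0 ↔ b ≤ 0 := by
  have hbr := hS.root b hb
  constructor
  · intro h1
    rcases hbr.pos_or_neg with h0 | h0
    · exact absurd h1 (fun h2 => (hbr.act p).not_pos_neg (hpos b hb h0) h2)
    · exact h0
  · intro h0
    have h1 := hpos (-b) (hS.neg b hb) (neg_nonneg.2 h0)
    rwa [map_neg, neg_nonneg] at h1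

theorem nonneg_iff {p : W} (hp : p ∈ Pr cs h S) (hpos : ∀ x ∈ S, 0 ≤ x → 0 ≤ rep cs h p x) {b : I → ℤ} (hb : b ∈ S) :
    0 ≤ rep cs h p b ↔ 0 ≤ b := by
  have h1 := nonpos_iff hS hp hpos (hS.neg b hb)
  rwa [map_neg, neg_nonpos, neg_nonpos] at h1

theorem ls_mul {p v : W} (hp : p ∈ Pr cs h S) (hpos : ∀ x ∈ S, 0 ≤ x → 0 ≤ rep cs h p x) (hv : v ∈ Pr cs h S) :
    ls cs h S (p * v) = ls cs h S v := by
  unfold ls
  congr 1
  ext a
  constructor
  · rintro ⟨h1, h2, h3⟩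
    rw [rep_mul_apply] at h3
    exact ⟨h1, h2, (nonpos_iff hS hp hpos ((hv a).2 h1)).1 h3⟩
  · rintro ⟨h1, h2, h3⟩
    refine ⟨h1, h2, ?_⟩
    rw [rep_mul_apply]
    exact (nonpos_iff hS hp hpos ((hv a).2 h1)).2 h3

/-- every `w` preserving `S` is `p * v` -/
theorem exists_fac' (w : W) (hw : w ∈ Pr cs h S) :
    ∃ p ∈ Pr cs h S, ∃ v ∈ RW cs h S, w = p * v ∧ ∀ x ∈ S, 0 ≤ x → 0 ≤ rep cs h p x := by
  obtain ⟨v, hv, hpos⟩ := exists_adjust (cs := cs) (h := h) S (RW cs h S) (fun a ha => by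
    obtain ⟨u, i, e⟩ := hS.root a ha
    refine ⟨u, i, e, Subgroup.subset_closure ⟨a, ha, ?_⟩⟩
    rw [e]
    exact isRf_simple u i) w
  exact ⟨w * v, mul_mem hw (RW_le_Pr hS hv), v⁻¹, inv_mem hv, by group, hpos⟩

variable {θ : (I → ℤ) ≃+ (I → ℤ)} (hg : ∀ a, IsRoot cs h (θ a) ↔ IsRoot cs h a)

omit hS in
include hg in
theorem cpr_theta (x : I → ℤ) {a : I → ℤ} (ha : IsRoot cs h a) : cpr cs h (θ x) (θ a) = cpr cs h x a := by
  have ha' := (hg a).2 ha
  have h0 : ∀ {b : I → ℤ}, IsRoot cs h b → cpr cs h 0 b = 0 := by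
    intro b hb
    have := cpr_smul cs h 0 (0 : I → ℤ) hb
    rwa [zero_smul, zero_mul] at this
  let f : (I → ℤ) →+ ℤ := ⟨⟨fun x => cpr cs h (θ x) (θ a), by rw [map_zero, h0 ha']⟩, fun x y => by
    show cpr cs h (θ (x + y)) (θ a) = cpr cs h (θ x) (θ a) + cpr cs h (θ y) (θ a)
    rw [map_add, cpr_add cs h _ _ ha']⟩
  let g : (I → ℤ) →+ ℤ := ⟨⟨fun x => cpr cs h x a, h0 ha⟩, fun x y => cpr_add cs h x y ha⟩
  have hfg : f = g := by
    refine AddMonoidHom.functions_ext _ _ _ fun i z => ?_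
    have e : (Pi.single i z : I → ℤ) = z • sr i := by
      funext j
      by_cases hj : j = i
      · subst hj; simp [sr]
      · simp [sr, hj]
    rw [e, map_zsmul, map_zsmul]
    congr 1
    exact Cfsg.Agent.H123.ExcComb.cpr_g hg (isRoot_sr cs h i) ha
  exact DFunLike.congr_fun hfg x

include hg in
/-- `θ` normalises `RW` -/
theorem exists_theta (hθ : ∀ a ∈ S, θ a ∈ S) {v : W} (hv : v ∈ RW cs h S) :
    ∃ v' ∈ RW cs h S, ∀ x, rep cs h v' (θ x) = θ (rep cs h v x) := by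
  induction hv using Subgroup.closure_induction with
  | mem s hs =>
    obtain ⟨a, ha, hs⟩ := hs
    obtain ⟨s', hs'⟩ := exists_rf (cs := cs) (h := h) (hS.root _ (hθ a ha))
    refine ⟨s', Subgroup.subset_closure ⟨_, hθ a ha, hs'⟩, fun x => ?_⟩
    rw [hs', hs, cpr_theta hg x (hS.root a ha), map_sub, map_zsmul]
  | one => exact ⟨1, one_mem _, fun x => by simp⟩
  | mul a b _ _ iha ihb =>
    obtain ⟨a', ha', h1⟩ := iha
    obtain ⟨b', hb', h2⟩ := ihb
    exact ⟨a' * b', mul_mem ha' hb', fun x => by rw [rep_mul_apply, h2, h1, rep_mul_apply]⟩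
  | inv a _ iha =>
    obtain ⟨a', ha', h1⟩ := iha
    refine ⟨a'⁻¹, inv_mem ha', fun x => ?_⟩
    have h2 := h1 (rep cs h a⁻¹ x)
    rw [rep_apply_inv] at h2
    rw [← h2, rep_inv_apply]

include hg in
/-- **The factorisation.** -/
theorem exists_fac (hθ : ∀ a, θ a ∈ S ↔ a ∈ S) (hθp : ∀ a ∈ S, 0 ≤ a → 0 ≤ θ a) {w : W} (hw : w ∈ Pr cs h S)
    (hwθ : ∀ x, rep cs h w (θ x) = θ (rep cs h w x)) :
    ∃ p ∈ Pr cs h S, ∃ v ∈ RW cs h S, w = p * v ∧ (∀ x ∈ S, 0 ≤ x → 0 ≤ rep cs h p x) ∧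
      (∀ x, rep cs h v (θ x) = θ (rep cs h v x)) ∧ (∀ x, rep cs h p (θ x) = θ (rep cs h p x)) ∧
      ls cs h S w = ls cs h S v := by
  obtain ⟨p, hp, v, hv, rfl, hpos⟩ := exists_fac' hS w hw
  obtain ⟨v', hv', hvv⟩ := exists_theta hS hg (fun a ha => (hθ a).2 ha) hv
  have hvP := RW_le_Pr hS hv
  have hvP' := RW_le_Pr hS hv'
  set p' : W := p * v * v'⁻¹ with hp'
  have hpP' : p' ∈ Pr cs h S := mul_mem (mul_mem hp hvP) (inv_mem hvP')
  have e1 : ∀ x, rep cs h v'⁻¹ (θ x) = θ (rep cs h v⁻¹ x) := by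
    intro x
    have h2 := hvv (rep cs h v⁻¹ x)
    rw [rep_apply_inv] at h2
    rw [← h2, rep_inv_apply]
  have e2 : ∀ x, rep cs h p' (θ x) = θ (rep cs h p x) := by
    intro x
    rw [hp', rep_mul_apply, e1, hwθ, rep_mul_apply, rep_apply_inv]
  have hpos' : ∀ x ∈ S, 0 ≤ x → 0 ≤ rep cs h p' x := by
    intro y hy h0
    obtain ⟨x, rfl⟩ := θ.surjective y
    have hx : x ∈ S := (hθ x).1 hy
    have hx0 : 0 ≤ x := by
      rcases (hS.root x hx).pos_or_neg with h1 | h1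
      · exact h1
      · exfalso
        have h2 := hθp (-x) (hS.neg x hx) (neg_nonneg.2 h1)
        rw [map_neg, neg_nonneg] at h2
        exact (hS.root _ hy).not_pos_neg h0 h2
    rw [e2]
    exact hθp _ ((hp x).2 hx) (hpos x hx hx0)
  have h3 : p'⁻¹ * p = v' * v⁻¹ := by
    rw [hp']
    group
  have h4 : p'⁻¹ * p = 1 := by
    refine eq_one hS (by rw [h3]; exact mul_mem hv' (inv_mem hv)) fun x hx h0 => ?_
    rw [rep_mul_apply]
    have h5 : rep cs h p' (rep cs h p'⁻¹ (rep cs h p x)) = rep cs h p x := rep_apply_inv _ _ _ _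
    rw [← nonneg_iff hS hpP' hpos' ((inv_mem hpP' : p'⁻¹ ∈ Pr cs h S) _ |>.2 ((hp x).2 hx)), h5]
    exact hpos x hx h0
  have h6 : p = p' := (inv_mul_eq_one.1 h4).symm
  have h7 : v' = v := by
    rw [h3] at h4
    exact mul_inv_eq_one.1 h4
  refine ⟨p, hp, v, hv, rfl, hpos, fun x => by rw [← hvv, h7], fun x => ?_, ls_mul hS hp hpos hvP⟩
  rw [← e2, ← h6]

end

/-! ### the torus -/

section Tor

variable {Y : Type*} [Group Y] {F : Type*} [Field F] {T : Subgroup Y} {χ : (I → ℤ) → Y → F} [Finite W]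

theorem rs_Sx (hA : ChAdd cs h T χ) {t : Y} (ht : t ∈ T) : RS cs h (Sx cs h χ t) := by
  obtain ⟨φ, h0, hadd, hφ⟩ := hA t ht
  have hneg : ∀ a ∈ Sx cs h χ t, -a ∈ Sx cs h χ t := fun a ha => by
    refine ⟨ha.1.neg, ?_⟩
    have h1 := hadd a (-a)
    rw [add_neg_cancel, h0, ← hφ a ha.1, ha.2, one_mul] at h1
    rw [hφ _ ha.1.neg, ← h1]
  have hz : ∀ a, φ a = 1 → ∀ n : ℤ, φ (n • a) = 1 := by
    intro a ha
    have hn : ∀ n : ℕ, φ (n • a) = 1 := by
      intro n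
      induction n with
      | zero => rw [zero_smul, h0]
      | succ n ih => rw [succ_nsmul, hadd, ih, ha, one_mul]
    intro n
    obtain ⟨m, rfl | rfl⟩ := n.eq_nat_or_neg
    · rw [natCast_zsmul]
      exact hn m
    · have h1 := hadd ((m : ℤ) • a) (-(m : ℤ) • a)
      rw [← add_smul, add_neg_cancel, zero_smul, h0, natCast_zsmul, hn m, one_mul] at h1
      exact h1.symm
  refine ⟨fun x hx => hx.1, hneg, fun a ha x hx => ?_⟩
  have hr : IsRoot cs h (x - cpr cs h x a • a) := isRoot_refl cs h hx.1 ha.1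
  refine ⟨hr, ?_⟩
  rw [hφ _ hr, sub_eq_add_neg, hadd, ← neg_smul, hz a (by rw [← hφ a ha.1]; exact ha.2), mul_one, ← hφ x hx.1]
  exact hx.2

/-- the elements of `RW (Sx t)` fix the characters of `t` -/
theorem chi_RW (hA : ChAdd cs h T χ) {t : Y} (ht : t ∈ T) {v : W} (hv : v ∈ RW cs h (Sx cs h χ t)) :
    ∀ a, IsRoot cs h a → χ (rep cs h v a) t = χ a t := by
  obtain ⟨φ, h0, hadd, hφ⟩ := id (hA t ht)
  have hS := rs_Sx hA ht
  have hz : ∀ a, φ a = 1 → ∀ n : ℤ, φ (n • a) = 1 := by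
    intro a ha
    have hn : ∀ n : ℕ, φ (n • a) = 1 := by
      intro n
      induction n with
      | zero => rw [zero_smul, h0]
      | succ n ih => rw [succ_nsmul, hadd, ih, ha, one_mul]
    intro n
    obtain ⟨m, rfl | rfl⟩ := n.eq_nat_or_neg
    · rw [natCast_zsmul]
      exact hn m
    · have h1 := hadd ((m : ℤ) • a) (-(m : ℤ) • a)
      rw [← add_smul, add_neg_cancel, zero_smul, h0, natCast_zsmul, hn m, one_mul] at h1
      exact h1.symm
  induction hv using Subgroup.closure_induction with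
  | mem s hs =>
    obtain ⟨b, hb, hs⟩ := hs
    intro a ha
    rw [hφ _ (ha.act s), hs a, sub_eq_add_neg, hadd, ← neg_smul, hz b (by rw [← hφ b hb.1]; exact hb.2), mul_one,
      hφ a ha]
  | one => intro a _; rw [map_one, Module.End.one_apply]
  | mul v w _ _ ihv ihw => intro a ha; rw [rep_mul_apply, ihv _ (ha.act w), ihw a ha]
  | inv v _ ihv =>
    intro a ha
    rw [← ihv _ (ha.act v⁻¹), rep_apply_inv]

theorem mem_Pr_of_chi {t : Y} {w : W} (hw : ∀ a, IsRoot cs h a → χ (rep cs h w a) t = χ a t) :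
    w ∈ Pr cs h (Sx cs h χ t) := by
  intro x
  constructor
  · rintro ⟨h1, h2⟩
    have h3 : IsRoot cs h x := by
      have := h1.act w⁻¹
      rwa [rep_inv_apply] at this
    exact ⟨h3, by rw [← hw x h3]; exact h2⟩
  · rintro ⟨h1, h2⟩
    exact ⟨h1.act w, by rw [hw x h1]; exact h2⟩

variable {θ : (I → ℤ) ≃+ (I → ℤ)}

/-- **The factorisation for a torus element.** -/
theorem exists_fac_PP (hA : ChAdd cs h T χ) {t : Y} (ht : t ∈ T) (hg : ∀ a, IsRoot cs h (θ a) ↔ IsRoot cs h a)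
    (hθ : ∀ a, θ a ∈ Sx cs h χ t ↔ a ∈ Sx cs h χ t) (hθp : ∀ a ∈ Sx cs h χ t, 0 ≤ a → 0 ≤ θ a) {w : W}
    (hw : ∀ a, IsRoot cs h a → χ (rep cs h w a) t = χ a t) (hwθ : ∀ x, rep cs h w (θ x) = θ (rep cs h w x)) :
    ∃ p ∈ PP cs h χ t, ∃ v ∈ RW cs h (Sx cs h χ t), w = p * v ∧ (∀ x, rep cs h v (θ x) = θ (rep cs h v x)) ∧
      (∀ x, rep cs h p (θ x) = θ (rep cs h p x)) ∧ ls cs h (Sx cs h χ t) w = ls cs h (Sx cs h χ t) v := by
  obtain ⟨p, hp, v, hv, e, h1, h2, h3, h4⟩ := exists_fac (rs_Sx hA ht) hg hθ hθp (mem_Pr_of_chi hw) hwθ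
  refine ⟨p, mem_PP.2 ⟨fun a ha => ?_, h1⟩, v, hv, e, h2, h3, h4⟩
  have e' : p = w * v⁻¹ := by rw [e]; group
  rw [e', rep_mul_apply, hw _ (ha.act v⁻¹), chi_RW hA ht (inv_mem hv) a ha]

/-- **The sum over the elements of the stabiliser commuting with `θ`.** -/
theorem sum_le_PP (hA : ChAdd cs h T χ) {t : Y} (ht : t ∈ T) (hg : ∀ a, IsRoot cs h (θ a) ↔ IsRoot cs h a)
    (hθ : ∀ a, θ a ∈ Sx cs h χ t ↔ a ∈ Sx cs h χ t) (hθp : ∀ a ∈ Sx cs h χ t, 0 ≤ a → 0 ≤ θ a) (Fs Gs : Finset W)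
    (hF : ∀ w ∈ Fs, (∀ a, IsRoot cs h a → χ (rep cs h w a) t = χ a t) ∧ ∀ x, rep cs h w (θ x) = θ (rep cs h w x))
    (hG : ∀ v ∈ RW cs h (Sx cs h χ t), (∀ x, rep cs h v (θ x) = θ (rep cs h v x)) → v ∈ Gs) (f : ℕ → ℕ) :
    ∑ w ∈ Fs, f (ls cs h (Sx cs h χ t) w) ≤
      Nat.card ↥(PP cs h χ t) * ∑ v ∈ Gs, f (ls cs h (Sx cs h χ t) v) := by
  classical
  have := Fintype.ofFinite ↥(PP cs h χ t)
  have key : ∀ w : Fs, ∃ pv : ↥(PP cs h χ t) × W, pv.2 ∈ Gs ∧ (w : W) = pv.1 * pv.2 ∧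
      ls cs h (Sx cs h χ t) w = ls cs h (Sx cs h χ t) pv.2 := by
    rintro ⟨w, hw⟩
    obtain ⟨p, hp, v, hv, e, h1, -, h2⟩ := exists_fac_PP hA ht hg hθ hθp (hF w hw).1 (hF w hw).2
    exact ⟨(⟨p, hp⟩, v), hG v hv h1, e, h2⟩
  choose pv h1 h2 h3 using key
  have hinj : Function.Injective pv := fun a b hab => Subtype.ext (by rw [h2 a, h2 b, hab])
  calc ∑ w ∈ Fs, f (ls cs h (Sx cs h χ t) w) = ∑ w : Fs, f (ls cs h (Sx cs h χ t) w) := (Finset.sum_coe_sort Fs _).symm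
    _ = ∑ w : Fs, f (ls cs h (Sx cs h χ t) (pv w).2) := Finset.sum_congr rfl fun w _ => by rw [h3 w]
    _ = ∑ z ∈ Finset.univ.image pv, f (ls cs h (Sx cs h χ t) z.2) := by
        rw [Finset.sum_image fun a _ b _ hab => hinj hab]
    _ ≤ ∑ z ∈ (Finset.univ : Finset ↥(PP cs h χ t)) ×ˢ Gs, f (ls cs h (Sx cs h χ t) z.2) := by
        refine Finset.sum_le_sum_of_subset fun z hz => ?_
        obtain ⟨w, -, rfl⟩ := Finset.mem_image.1 hz
        exact Finset.mem_product.2 ⟨Finset.mem_univ _, h1 w⟩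
    _ = Nat.card ↥(PP cs h χ t) * ∑ v ∈ Gs, f (ls cs h (Sx cs h χ t) v) := by
        rw [Finset.sum_product]
        show ∑ _x : ↥(PP cs h χ t), ∑ y ∈ Gs, f (ls cs h (Sx cs h χ t) y) = _
        rw [Finset.sum_const, Finset.card_univ, Nat.card_eq_fintype_card, smul_eq_mul]

/-- the number of the elements -/
theorem card_le_PP (hA : ChAdd cs h T χ) {t : Y} (ht : t ∈ T) (hg : ∀ a, IsRoot cs h (θ a) ↔ IsRoot cs h a)
    (hθ : ∀ a, θ a ∈ Sx cs h χ t ↔ a ∈ Sx cs h χ t) (hθp : ∀ a ∈ Sx cs h χ t, 0 ≤ a → 0 ≤ θ a) (Fs Gs : Finset W)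
    (hF : ∀ w ∈ Fs, (∀ a, IsRoot cs h a → χ (rep cs h w a) t = χ a t) ∧ ∀ x, rep cs h w (θ x) = θ (rep cs h w x))
    (hG : ∀ v ∈ RW cs h (Sx cs h χ t), (∀ x, rep cs h v (θ x) = θ (rep cs h v x)) → v ∈ Gs) :
    Fs.card ≤ Nat.card ↥(PP cs h χ t) * Gs.card := by
  have h1 := sum_le_PP hA ht hg hθ hθp Fs Gs hF hG (fun _ => 1)
  simpa using h1

end Tor

end Cfsg.Agent.H875.RG
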