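import Cfsg.Agent.H931.KC.Stab

/-!
# `A₄A₄` in `E₈`: the finite checks (S3509, helper875)

`bs j`, `j : Fin 8` : the extended simple roots other than `some 4`, the two chains `0 1 2 3`, `4 5 6 7`;
`R k`, `k : Fin 20` : the sums over intervals of the chains = the positive roots of the subsystem.
-/

set_option autoImplicit false
set_option maxRecDepth 100000

namespace Cfsg.Agent.H875.RG.Four

open Cfsg.Lie Cfsg.Agent.Tits.Roots Cfsg.Agent.Nodes.RGDChev Cfsg.Agent.H931.KC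

/-- the extended nodes other than `some 4` -/
def nd : Fin 8 → Option (Fin 8) := ![none, some 7, some 6, some 5, some 0, some 2, some 3, some 1]

/-- the base -/
def bs : Fin 8 → Fin 8 → ℤ :=
  ![![-2, -3, -4, -6, -5, -4, -3, -2], ![0, 0, 0, 0, 0, 0, 0, 1], ![0, 0, 0, 0, 0, 0, 1, 0], ![0, 0, 0, 0, 0, 1, 0, 0],
    ![1, 0, 0, 0, 0, 0, 0, 0], ![0, 0, 1, 0, 0, 0, 0, 0], ![0, 0, 0, 1, 0, 0, 0, 0], ![0, 1, 0, 0, 0, 0, 0, 0]]

theorem nroots : chevE8.nroots = 240 := by decide +kernel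

theorem hr_eq : hr chevE8 8 = ![2, 3, 4, 6, 5, 4, 3, 2] := by decide +kernel

theorem al_nd : ∀ j : Fin 8, al chevE8 8 (nd j) = bs j := by decide +kernel

theorem nd_ne : ∀ j : Fin 8, nd j ≠ some 4 := by decide +kernel

theorem nd_inj : ∀ i j : Fin 8, nd i = nd j → i = j := by decide +kernel

theorem exists_nd : ∀ j : Option (Fin 8), j ≠ some 4 → ∃ i, nd i = j := by decide +kernel

/-- the intervals -/
def lo : Fin 20 → Fin 8 := ![0, 0, 0, 0, 1, 1, 1, 2, 2, 3, 4, 4, 4, 4, 5, 5, 5, 6, 6, 7]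
def hi : Fin 20 → Fin 8 := ![0, 1, 2, 3, 1, 2, 3, 2, 3, 3, 4, 5, 6, 7, 5, 6, 7, 6, 7, 7]

/-- the sum of `f` over the interval -/
def isum {A : Type*} [AddCommMonoid A] (f : Fin 8 → A) (k : Fin 20) : A :=
  ∑ j : Fin 8, if lo k ≤ j ∧ j ≤ hi k then f j else 0

/-- the positive roots -/
def R : Fin 20 → Fin 8 → ℤ := isum bs

theorem R_inj : ∀ a b : Fin 20, R a = R b → a = b := by decide +kernel

/-- every root of the positive system is one of the `R k` -/
theorem exists_R : ∀ r : Fin 240, (vec chevE8 8 r 4 = 0 ∧ ∀ i, 0 ≤ vec chevE8 8 r i) ∨ vec chevE8 8 r 4 = -5 →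
    ∃ k, vec chevE8 8 r = R k := by decide +kernel

theorem R_root : ∀ k : Fin 20, ((R k 4 = 0 ∧ ∀ i, 0 ≤ R k i) ∨ R k 4 = -5) ∧ ∃ r : Fin 240, vec chevE8 8 r = R k := by
  decide +kernel

/-- adjacency in the two chains -/
def adj (i j : Fin 8) : Bool := (i.val + 1 == j.val || j.val + 1 == i.val) && (i.val / 4 == j.val / 4)

theorem adj_iff : ∀ i j : Fin 8, (∃ r : Fin 240, vec chevE8 8 r = bs i + bs j) ↔ adj i j = true := by decide +kernel

/-- nothing can be added to the highest root of a chain -/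
theorem R3_top : ∀ k : Fin 20, ∀ r : Fin 240, vec chevE8 8 r ≠ R 3 + R k := by decide +kernel

/-- six roots which can be subtracted -/
def six : Fin 6 → Fin 20 := ![0, 1, 2, 6, 8, 9]

theorem six_inj : ∀ a b : Fin 6, six a = six b → a = b := by decide +kernel

theorem six_sub : ∀ a : Fin 6, ∃ r : Fin 240, vec chevE8 8 r = R 3 - R (six a) := by decide +kernel

/-- the four paths with four vertices -/
theorem paths : ∀ a b c d : Fin 8, adj a b = true → adj b c = true → adj c d = true → a ≠ c → b ≠ d →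
    (a = 0 ∧ b = 1 ∧ c = 2 ∧ d = 3) ∨ (a = 3 ∧ b = 2 ∧ c = 1 ∧ d = 0) ∨ (a = 4 ∧ b = 5 ∧ c = 6 ∧ d = 7) ∨
      (a = 7 ∧ b = 6 ∧ c = 5 ∧ d = 4) := by decide +kernel

theorem adj_chain : adj 0 1 = true ∧ adj 1 2 = true ∧ adj 2 3 = true ∧ adj 4 5 = true ∧ adj 5 6 = true ∧
    adj 6 7 = true := by decide +kernel

/-- the two permutations of order 4 of the chains -/
def s1 : Fin 8 → Fin 8 := ![4, 5, 6, 7, 3, 2, 1, 0]
def s2 : Fin 8 → Fin 8 := ![7, 6, 5, 4, 0, 1, 2, 3]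

/-- the induced permutations of the intervals -/
def r1 : Fin 20 → Fin 20 := ![10, 11, 12, 13, 14, 15, 16, 17, 18, 19, 9, 8, 6, 3, 7, 5, 2, 4, 1, 0]
def r2 : Fin 20 → Fin 20 := ![19, 18, 16, 13, 17, 15, 12, 14, 11, 10, 0, 1, 2, 3, 4, 5, 6, 7, 8, 9]

theorem r1_eq : ∀ k : Fin 20, isum (fun j => bs (s1 j)) k = R (r1 k) := by decide +kernel
theorem r2_eq : ∀ k : Fin 20, isum (fun j => bs (s2 j)) k = R (r2 k) := by decide +kernel

/-- the orbits -/
def cl : Fin 20 → Fin 6 := ![2, 3, 4, 0, 5, 1, 4, 5, 3, 2, 2, 3, 4, 0, 5, 1, 4, 5, 3, 2]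

/-- the lengths of the orbits -/
def sz : Fin 6 → ℕ := ![2, 2, 4, 4, 4, 4]

theorem cl_card : ∀ i : Fin 6, (Finset.univ.filter fun k => cl k = i).card = sz i := by decide +kernel

theorem cl_r1 : ∀ a b : Fin 20, cl a = cl b → ∃ n : Fin 4, r1^[n.val] a = b := by decide +kernel
theorem cl_r2 : ∀ a b : Fin 20, cl a = cl b → ∃ n : Fin 4, r2^[n.val] a = b := by decide +kernel

theorem isum_three {A : Type*} [AddCommMonoid A] (f : Fin 8 → A) : isum f 3 = f 0 + f 1 + f 2 + f 3 := by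
  simp [isum, Fin.sum_univ_eight, lo, hi]

/-- the coefficients -/
def mm : Fin 8 → ℤ := ![-1, -2, -3, -4, -2, -4, -6, -3]

theorem five_sr : (5 : ℤ) • (sr 4 : Fin 8 → ℤ) = ∑ j : Fin 8, mm j • bs j := by decide +kernel

/-- the Kac coordinates of degree 5 with 40 roots -/
theorem kac_forty : ∀ a0 a1 a2 a5 a6 a7 : Fin 3,
    2 * a0.val + 3 * a1.val + 4 * a2.val + 4 * a5.val + 3 * a6.val + 2 * a7.val ≤ 5 →
    (Finset.univ.filter fun r : Fin 240 => (5 : ℤ) ∣ vec chevE8 8 r 0 * a0.val + vec chevE8 8 r 1 * a1.val +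
      vec chevE8 8 r 2 * a2.val + vec chevE8 8 r 5 * a5.val + vec chevE8 8 r 6 * a6.val +
        vec chevE8 8 r 7 * a7.val).card ≠ 40 := by decide +kernel

end Cfsg.Agent.H875.RG.Four
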