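import Cfsg.Agent.H875.RG.Fac

/-!
# S3509: the sum over the elements commuting with the frame automorphism, by inversion sets (helper875)

An element `v ∈ RW S` is determined by its inversion set `{a ∈ S, 0 ≤ a, v a ≤ 0}`, and the inversion set is `θ`-stable if `v`
commutes with `θ`.

* `sum_inv_le` : `∑ q ^ ls v ≤ ∏_k (1 + q ^ n_k)`, `n_k` the sizes of the blocks of a partition of the positive roots of
  `S` into parts of `θ`-orbits;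
* `sum_inv_le_one` : `∑ q ^ ls v ≤ (1 + q) ^ N`;
* `sum_W_le`, `sum_W_le_one` : the same for the elements of the stabiliser of a torus element, with the factor `|PP|`.
-/

set_option autoImplicit false
set_option linter.unusedSectionVars false
set_option linter.unusedVariables false

namespace Cfsg.Agent.H875.RG

open CoxeterSystem Cfsg.Agent.ChevalleyStructure.CoxeterGeom Cfsg.Agent.Tits.Roots Cfsg.Agent.Tits.Core
  Cfsg.Agent.Tits.RootComb Cfsg.Agent.Tits.Exchange Cfsg.Agent.Nodes.Reps Cfsg.Agent.Nodes.BNOf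
  Cfsg.Agent.Nodes.Coroot Cfsg.Agent.KFacts.RgdSL Cfsg.Agent.KFacts.RgdField Cfsg.Agent.H460.OT
  Cfsg.Agent.BpExc.TorCent

variable {I W : Type*} [Fintype I] [DecidableEq I] [Group W] {M : CoxeterMatrix I}
  {cs : CoxeterSystem M W} {A : I → I → ℤ} {h : IsCartan M A}

section

variable [Finite W] {S : Set (I → ℤ)} (hS : RS cs h S) {θ : (I → ℤ) ≃+ (I → ℤ)}

include hS

/-- an element of `RW` is determined by its inversion set -/
theorem eq_of_inv {v v' : W} (hv : v ∈ RW cs h S) (hv' : v' ∈ RW cs h S)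
    (he : ∀ a ∈ S, 0 ≤ a → rep cs h v a ≤ 0 → rep cs h v' a ≤ 0)
    (he' : ∀ a ∈ S, 0 ≤ a → rep cs h v' a ≤ 0 → rep cs h v a ≤ 0) : v = v' := by
  have hP := RW_le_Pr hS hv
  have hP' := RW_le_Pr hS hv'
  have h1 : v' * v⁻¹ = 1 := by
    refine eq_one hS (mul_mem hv' (inv_mem hv)) fun x hx h0 => ?_
    rw [rep_mul_apply]
    set y := rep cs h v⁻¹ x with hy
    have hyS : y ∈ S := ((inv_mem hP : v⁻¹ ∈ Pr cs h S) x).2 hx
    have hvy : rep cs h v y = x := rep_apply_inv _ _ _ _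
    rcases (hS.root y hyS).pos_or_neg with h2 | h2
    · rcases ((hS.root y hyS).act v').pos_or_neg with h3 | h3
      · exact h3
      · exfalso
        have h4 := he' y hyS h2 h3
        rw [hvy] at h4
        exact (hS.root x hx).not_pos_neg h0 h4
    · have h3 := he (-y) (hS.neg y hyS) (neg_nonneg.2 h2) (by rw [map_neg, hvy]; exact neg_nonpos.2 h0)
      rwa [map_neg, neg_nonpos] at h3
  exact (mul_inv_eq_one.1 h1).symm

omit hS in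
/-- inversion sets are `θ`-stable -/
theorem inv_theta (hθ : ∀ a ∈ S, θ a ∈ S) (hθp : ∀ a ∈ S, 0 ≤ a → 0 ≤ θ a) {v : W} (hP : v ∈ Pr cs h S)
    (hS : RS cs h S) (hvθ : ∀ x, rep cs h v (θ x) = θ (rep cs h v x)) (n : ℕ) {a : I → ℤ} (ha : a ∈ S) (h0 : 0 ≤ a)
    (hv : rep cs h v a ≤ 0) : θ^[n] a ∈ S ∧ 0 ≤ θ^[n] a ∧ rep cs h v (θ^[n] a) ≤ 0 := by
  induction n with
  | zero => exact ⟨ha, h0, hv⟩
  | succ n ih =>
    obtain ⟨h1, h2, h3⟩ := ih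
    rw [Function.iterate_succ_apply']
    refine ⟨hθ _ h1, hθp _ h1 h2, ?_⟩
    rw [hvθ]
    have h4 := hθp (-rep cs h v (θ^[n] a)) (hS.neg _ ((hP _).2 h1)) (neg_nonneg.2 h3)
    rwa [map_neg, neg_nonneg] at h4

/-- **The sum by inversion sets.** -/
theorem sum_inv_le (hθ : ∀ a ∈ S, θ a ∈ S) (hθp : ∀ a ∈ S, 0 ≤ a → 0 ≤ θ a) (Gs : Finset W)
    (hG : ∀ v ∈ Gs, v ∈ RW cs h S ∧ ∀ x, rep cs h v (θ x) = θ (rep cs h v x)) {K : Type*} [Fintype K]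
    (c : (I → ℤ) → K) (hc : ∀ a ∈ S, 0 ≤ a → ∀ b ∈ S, 0 ≤ b → c a = c b → ∃ n, θ^[n] a = b) (q : ℕ) :
    ∑ v ∈ Gs, q ^ ls cs h S v ≤ ∏ k : K, (1 + q ^ Set.ncard {a | a ∈ S ∧ 0 ≤ a ∧ c a = k}) := by
  classical
  have hfin : {a | a ∈ S ∧ 0 ≤ a}.Finite :=
    (RGD.finite_roots (cs := cs) (h := h)).subset fun a ha => hS.root a ha.1
  let κ : W → Finset K := fun v => Finset.univ.filter fun k => ∃ a, a ∈ S ∧ 0 ≤ a ∧ c a = k ∧ rep cs h v a ≤ 0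
  have hκ : ∀ v k, k ∈ κ v ↔ ∃ a, a ∈ S ∧ 0 ≤ a ∧ c a = k ∧ rep cs h v a ≤ 0 := fun v k => by
    simp only [κ, Finset.mem_filter, Finset.mem_univ, true_and]
  have hblk : ∀ v ∈ Gs, ∀ a ∈ S, 0 ≤ a → (rep cs h v a ≤ 0 ↔ c a ∈ κ v) := by
    intro v hv a ha h0
    rw [hκ]
    refine ⟨fun h1 => ⟨a, ha, h0, rfl, h1⟩, ?_⟩
    rintro ⟨b, hb, hb0, hbc, h1⟩
    obtain ⟨n, rfl⟩ := hc b hb hb0 a ha h0 hbc
    exact (inv_theta hθ hθp (RW_le_Pr hS (hG v hv).1) hS (hG v hv).2 n hb hb0 h1).2.2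
  have hinj : Set.InjOn κ (Gs : Set W) := by
    intro v hv v' hv' e
    exact eq_of_inv hS (hG v hv).1 (hG v' hv').1
      (fun a ha h0 h1 => (hblk v' hv' a ha h0).2 (by rw [← e]; exact (hblk v hv a ha h0).1 h1))
      (fun a ha h0 h1 => (hblk v hv a ha h0).2 (by rw [e]; exact (hblk v' hv' a ha h0).1 h1))
  have hls : ∀ v ∈ Gs, ls cs h S v = ∑ k ∈ κ v, Set.ncard {a | a ∈ S ∧ 0 ≤ a ∧ c a = k} := by
    intro v hv
    have e1 : {a | a ∈ S ∧ 0 ≤ a ∧ rep cs h v a ≤ 0} = ⋃ k ∈ κ v, {a | a ∈ S ∧ 0 ≤ a ∧ c a = k} := by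
      ext a
      simp only [Set.mem_iUnion, exists_prop]
      constructor
      · rintro ⟨h1, h2, h3⟩
        exact ⟨c a, (hblk v hv a h1 h2).1 h3, h1, h2, rfl⟩
      · rintro ⟨k, hk, h1, h2, rfl⟩
        exact ⟨h1, h2, (hblk v hv a h1 h2).2 hk⟩
    unfold ls
    rw [e1]
    have hfk : ∀ k, {a | a ∈ S ∧ 0 ≤ a ∧ c a = k}.Finite := fun k => hfin.subset fun a ha => ⟨ha.1, ha.2.1⟩
    have hset : (⋃ k ∈ κ v, {a | a ∈ S ∧ 0 ≤ a ∧ c a = k}) = ((κ v).biUnion fun k => (hfk k).toFinset : Finset (I → ℤ)) := by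
      ext a
      simp only [Set.mem_iUnion, exists_prop, Finset.coe_biUnion, Finset.mem_coe, Set.Finite.coe_toFinset]
    rw [hset, Set.ncard_coe_finset, Finset.card_biUnion]
    · exact Finset.sum_congr rfl fun k _ => by rw [Set.ncard_eq_toFinset_card _ (hfk k)]
    · intro k _ k' _ hkk
      rw [Function.onFun, Finset.disjoint_left]
      intro a ha ha'
      rw [Set.Finite.mem_toFinset] at ha ha'
      exact hkk (ha.2.2.symm.trans ha'.2.2)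
  calc ∑ v ∈ Gs, q ^ ls cs h S v = ∑ v ∈ Gs, ∏ k ∈ κ v, q ^ Set.ncard {a | a ∈ S ∧ 0 ≤ a ∧ c a = k} :=
        Finset.sum_congr rfl fun v hv => by rw [hls v hv, Finset.prod_pow_eq_pow_sum]
    _ = ∑ B ∈ Gs.image κ, ∏ k ∈ B, q ^ Set.ncard {a | a ∈ S ∧ 0 ≤ a ∧ c a = k} := by
        rw [Finset.sum_image fun a ha b hb hab => hinj ha hb hab]
    _ ≤ ∑ B ∈ (Finset.univ : Finset K).powerset, ∏ k ∈ B, q ^ Set.ncard {a | a ∈ S ∧ 0 ≤ a ∧ c a = k} :=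
        Finset.sum_le_sum_of_subset fun B _ => Finset.mem_powerset.2 (Finset.subset_univ B)
    _ = ∏ k : K, (1 + q ^ Set.ncard {a | a ∈ S ∧ 0 ≤ a ∧ c a = k}) := (Finset.prod_one_add _).symm

/-- **C1** -/
theorem sum_inv_le_one (hθ : ∀ a ∈ S, θ a ∈ S) (hθp : ∀ a ∈ S, 0 ≤ a → 0 ≤ θ a) (Gs : Finset W)
    (hG : ∀ v ∈ Gs, v ∈ RW cs h S ∧ ∀ x, rep cs h v (θ x) = θ (rep cs h v x)) (q : ℕ) :
    ∑ v ∈ Gs, q ^ ls cs h S v ≤ (1 + q) ^ Set.ncard {a | a ∈ S ∧ 0 ≤ a} := by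
  classical
  have hfin : {a | a ∈ S ∧ 0 ≤ a}.Finite :=
    (RGD.finite_roots (cs := cs) (h := h)).subset fun a ha => hS.root a ha.1
  have := hfin.fintype
  by_cases hne : ({a | a ∈ S ∧ 0 ≤ a} : Set (I → ℤ)) = ∅
  · -- no roots
    have hG1 : ∀ v ∈ Gs, v = 1 := fun v hv => eq_one hS (hG v hv).1 fun x hx h0 => by
      have : x ∈ ({a | a ∈ S ∧ 0 ≤ a} : Set (I → ℤ)) := ⟨hx, h0⟩
      rw [hne] at this
      exact this.elim
    have hG2 : Gs ⊆ {1} := fun v hv => Finset.mem_singleton.2 (hG1 v hv)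
    have hls1 : ls cs h S (1 : W) = 0 := by
      unfold ls
      have e : {a | a ∈ S ∧ 0 ≤ a ∧ rep cs h (1 : W) a ≤ 0} = ∅ := by
        rw [Set.eq_empty_iff_forall_notMem]
        rintro a ⟨h1, h2, -⟩
        have : a ∈ ({a | a ∈ S ∧ 0 ≤ a} : Set (I → ℤ)) := ⟨h1, h2⟩
        rw [hne] at this
        exact this
      rw [e, Set.ncard_empty]
    calc ∑ v ∈ Gs, q ^ ls cs h S v ≤ ∑ v ∈ ({1} : Finset W), q ^ ls cs h S v := Finset.sum_le_sum_of_subset hG2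
      _ = 1 := by rw [Finset.sum_singleton, hls1, pow_zero]
      _ ≤ _ := Nat.one_le_pow _ _ (by omega)
  obtain ⟨a₀, ha₀⟩ := Set.nonempty_iff_ne_empty.2 hne
  let d : (I → ℤ) → {a | a ∈ S ∧ 0 ≤ a} := fun a => if ha : a ∈ {a | a ∈ S ∧ 0 ≤ a} then ⟨a, ha⟩ else ⟨a₀, ha₀⟩
  have hd : ∀ a (ha : a ∈ {a | a ∈ S ∧ 0 ≤ a}), d a = ⟨a, ha⟩ := fun a ha => dif_pos ha
  refine (sum_inv_le hS hθ hθp Gs hG d (fun a ha h0 b hb hb0 e => ⟨0, ?_⟩) q).trans ?_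
  · rw [hd a ⟨ha, h0⟩, hd b ⟨hb, hb0⟩] at e
    exact congrArg Subtype.val e
  · have h1 : ∀ k : {a | a ∈ S ∧ 0 ≤ a}, Set.ncard {a | a ∈ S ∧ 0 ≤ a ∧ d a = k} = 1 := by
      intro k
      rw [Set.ncard_eq_one]
      refine ⟨k, ?_⟩
      ext a
      constructor
      · rintro ⟨h1, h2, h3⟩
        rw [hd a ⟨h1, h2⟩] at h3
        exact congrArg Subtype.val h3
      · rintro rfl
        exact ⟨k.2.1, k.2.2, by rw [hd _ k.2]⟩
    rw [Finset.prod_congr rfl fun k _ => by rw [h1 k, pow_one], Finset.prod_const, Finset.card_univ,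
      ← Nat.card_eq_fintype_card, Nat.card_coe_set_eq]

end

/-! ### the torus -/

section Tor

variable {Y : Type*} [Group Y] {F : Type*} [Field F] {T : Subgroup Y} {χ : (I → ℤ) → Y → F} [Finite W]
  {θ : (I → ℤ) ≃+ (I → ℤ)}

/-- **C2: the sum over the elements of the stabiliser commuting with `θ`.** -/
theorem sum_W_le (hA : ChAdd cs h T χ) {t : Y} (ht : t ∈ T) (hg : ∀ a, IsRoot cs h (θ a) ↔ IsRoot cs h a)
    (hθ : ∀ a, θ a ∈ Sx cs h χ t ↔ a ∈ Sx cs h χ t) (hθp : ∀ a ∈ Sx cs h χ t, 0 ≤ a → 0 ≤ θ a) (Fs : Finset W)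
    (hF : ∀ w ∈ Fs, (∀ a, IsRoot cs h a → χ (rep cs h w a) t = χ a t) ∧ ∀ x, rep cs h w (θ x) = θ (rep cs h w x))
    {K : Type*} [Fintype K] (c : (I → ℤ) → K)
    (hc : ∀ a ∈ Sx cs h χ t, 0 ≤ a → ∀ b ∈ Sx cs h χ t, 0 ≤ b → c a = c b → ∃ n, θ^[n] a = b) (q : ℕ) :
    ∑ w ∈ Fs, q ^ ls cs h (Sx cs h χ t) w ≤
      Nat.card ↥(PP cs h χ t) * ∏ k : K, (1 + q ^ Set.ncard {a | a ∈ Sx cs h χ t ∧ 0 ≤ a ∧ c a = k}) := by
  classical
  have := Fintype.ofFinite W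
  set Gs : Finset W := Finset.univ.filter fun v => v ∈ RW cs h (Sx cs h χ t) ∧ ∀ x, rep cs h v (θ x) = θ (rep cs h v x)
    with hGs
  refine (sum_le_PP hA ht hg hθ hθp Fs Gs hF (fun v hv hvθ => Finset.mem_filter.2 ⟨Finset.mem_univ _, hv, hvθ⟩)
    (fun n => q ^ n)).trans (Nat.mul_le_mul_left _ ?_)
  exact sum_inv_le (rs_Sx hA ht) (fun a ha => (hθ a).2 ha) hθp Gs (fun v hv => (Finset.mem_filter.1 hv).2) c hc q

/-- **C1: the sum over the elements of the stabiliser commuting with `θ`.** -/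
theorem sum_W_le_one (hA : ChAdd cs h T χ) {t : Y} (ht : t ∈ T) (hg : ∀ a, IsRoot cs h (θ a) ↔ IsRoot cs h a)
    (hθ : ∀ a, θ a ∈ Sx cs h χ t ↔ a ∈ Sx cs h χ t) (hθp : ∀ a ∈ Sx cs h χ t, 0 ≤ a → 0 ≤ θ a) (Fs : Finset W)
    (hF : ∀ w ∈ Fs, (∀ a, IsRoot cs h a → χ (rep cs h w a) t = χ a t) ∧ ∀ x, rep cs h w (θ x) = θ (rep cs h w x))
    (q : ℕ) :
    ∑ w ∈ Fs, q ^ ls cs h (Sx cs h χ t) w ≤
      Nat.card ↥(PP cs h χ t) * (1 + q) ^ Set.ncard {a | a ∈ Sx cs h χ t ∧ 0 ≤ a} := by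
  classical
  have := Fintype.ofFinite W
  set Gs : Finset W := Finset.univ.filter fun v => v ∈ RW cs h (Sx cs h χ t) ∧ ∀ x, rep cs h v (θ x) = θ (rep cs h v x)
    with hGs
  refine (sum_le_PP hA ht hg hθ hθp Fs Gs hF (fun v hv hvθ => Finset.mem_filter.2 ⟨Finset.mem_univ _, hv, hvθ⟩)
    (fun n => q ^ n)).trans (Nat.mul_le_mul_left _ ?_)
  exact sum_inv_le_one (rs_Sx hA ht) (fun a ha => (hθ a).2 ha) hθp Gs (fun v hv => (Finset.mem_filter.1 hv).2) q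

end Tor

end Cfsg.Agent.H875.RG
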